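import Groth.Agent.Divisors.EffCartier
import Mathlib.RingTheory.Ideal.KrullsHeightTheorem
import Mathlib.RingTheory.Filtration
import Mathlib.AlgebraicGeometry.IdealSheaf.Subscheme

/-!
# Orders of ideals along integral effective Cartier divisors
-/

set_option autoImplicit false

universe u v

open CategoryTheory AlgebraicGeometry TopologicalSpace

namespace Groth.DivisorLength

/-- An element which is divisible by given powers of pairwise distinct principal primes, locally at
each of them, is divisible by their product. -/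
theorem mem_span_prod_pow {ι : Type v} {B : Type u} [CommRing B] (t : ι → B) (a : ι → ℕ)
    (S : Finset ι) (hnzd : ∀ i ∈ S, t i ∈ nonZeroDivisors B)
    (hprime : ∀ i ∈ S, (Ideal.span {t i}).IsPrime)
    (hne : ∀ i ∈ S, ∀ j ∈ S, i ≠ j → Ideal.span {t i} ≠ Ideal.span {t j}) (f : B)
    (hf : ∀ i ∈ S, ∃ s, s ∉ Ideal.span {t i} ∧ t i ^ a i ∣ s * f) :
    ∏ i ∈ S, t i ^ a i ∣ f := by
  classical
  induction S using Finset.induction_on with
  | empty => simp
  | @insert j S hj ih =>
    obtain ⟨g, hg⟩ := ih (fun i hi => hnzd i (Finset.mem_insert_of_mem hi))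
      (fun i hi => hprime i (Finset.mem_insert_of_mem hi))
      (fun i hi k hk => hne i (Finset.mem_insert_of_mem hi) k (Finset.mem_insert_of_mem hk))
      (fun i hi => hf i (Finset.mem_insert_of_mem hi))
    have hjS := Finset.mem_insert_self j S
    haveI := hprime j hjS
    obtain ⟨s, hs, hdiv⟩ := hf j hjS
    have hnot : ∀ i ∈ S, t i ∉ Ideal.span {t j} := by
      intro i hi hmem
      have hij : i ≠ j := fun h => hj (h ▸ hi)
      obtain ⟨c, hc⟩ := Ideal.mem_span_singleton.1 hmem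
      have hp := hprime i (Finset.mem_insert_of_mem hi)
      refine hne i (Finset.mem_insert_of_mem hi) j hjS hij (le_antisymm
        ((Ideal.span_singleton_le_iff_mem _).2 hmem) ((Ideal.span_singleton_le_iff_mem _).2 ?_))
      refine (hp.mem_or_mem (hc ▸ Ideal.mem_span_singleton_self (t i) :
        t j * c ∈ Ideal.span {t i})).resolve_right fun hci => ?_
      obtain ⟨d, rfl⟩ := Ideal.mem_span_singleton.1 hci
      have h1 : (t j * d - 1) * t i = 0 := by rw [sub_mul, one_mul, sub_eq_zero]; linear_combination -hc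
      have h2 := (mul_right_mem_nonZeroDivisors_eq_zero_iff
        (hnzd i (Finset.mem_insert_of_mem hi))).1 h1
      exact (hprime j hjS).ne_top ((Ideal.eq_top_iff_one _).2
        (Ideal.mem_span_singleton.2 ⟨d, (sub_eq_zero.1 h2).symm⟩))
    have hP : ∏ i ∈ S, t i ^ a i ∉ Ideal.span {t j} := by
      intro hmem
      obtain ⟨i, hi, hi'⟩ := (Ideal.IsPrime.prod_mem_iff).1 hmem
      exact hnot i hi ((hprime j hjS).mem_of_pow_mem _ hi')
    have key : ∀ (n : ℕ) (s' : B), s' ∉ Ideal.span {t j} → ∀ g : B, t j ^ n ∣ s' * g → t j ^ n ∣ g := by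
      intro n
      induction n with
      | zero => intro s' _ g _; simp
      | succ n ihn =>
        intro s' hs' g hd
        have h1 : s' * g ∈ Ideal.span {t j} :=
          Ideal.mem_span_singleton.2 ((dvd_pow_self _ n.succ_ne_zero).trans hd)
        obtain ⟨g', rfl⟩ := Ideal.mem_span_singleton.1 (((hprime j hjS).mem_or_mem h1).resolve_left hs')
        obtain ⟨k, hk⟩ := hd
        have h2 : (s' * g' - t j ^ n * k) * t j = 0 := by
          rw [sub_mul, sub_eq_zero]; linear_combination hk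
        have h3 := sub_eq_zero.1 ((mul_right_mem_nonZeroDivisors_eq_zero_iff (hnzd j hjS)).1 h2)
        obtain ⟨e, he⟩ := ihn s' hs' g' ⟨k, h3⟩
        exact ⟨e, by rw [he, pow_succ]; ring⟩
    have hdiv' : t j ^ a j ∣ (s * ∏ i ∈ S, t i ^ a i) * g := by rwa [mul_assoc, ← hg]
    obtain ⟨g', hg'⟩ := key (a j) _ (fun h => ((hprime j hjS).mem_or_mem h).elim hs hP) g hdiv'
    exact ⟨g', by rw [Finset.prod_insert hj, hg, hg']; ring⟩

/-- A nonzero ideal of a Noetherian local ring with principal maximal ideal is a power of it. -/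
theorem exists_eq_span_pow {A : Type u} [CommRing A] [IsNoetherianRing A] [IsLocalRing A] {t : A}
    (ht : IsLocalRing.maximalIdeal A = Ideal.span {t}) {K : Ideal A} (hK : K ≠ ⊥) :
    ∃ a, K = Ideal.span {t ^ a} := by
  classical
  have hex : ∃ n, ¬ K ≤ Ideal.span {t ^ n} := by
    by_contra! h
    refine hK (eq_bot_iff.2 (le_trans ?_ (Ideal.iInf_pow_eq_bot_of_isLocalRing
      (IsLocalRing.maximalIdeal A) (IsLocalRing.maximalIdeal.isMaximal A).ne_top).le))
    exact le_iInf fun n => by rw [ht, Ideal.span_singleton_pow]; exact h n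
  obtain ⟨n, hn⟩ : ∃ n, Nat.find hex = n + 1 := by
    refine Nat.exists_eq_succ_of_ne_zero fun h0 => ?_
    have := Nat.find_spec hex
    rw [h0, pow_zero, Ideal.span_singleton_one] at this
    exact this le_top
  have h1 : K ≤ Ideal.span {t ^ n} := not_not.1 (Nat.find_min hex (hn ▸ n.lt_succ_self))
  have h2 : ¬ K ≤ Ideal.span {t ^ (n + 1)} := hn ▸ Nat.find_spec hex
  obtain ⟨k, hkK, hk⟩ := SetLike.not_le_iff_exists.1 h2
  obtain ⟨u, rfl⟩ := Ideal.mem_span_singleton.1 (h1 hkK)
  have hu : IsUnit u := by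
    rw [← IsLocalRing.notMem_maximalIdeal, ht]
    intro hu
    obtain ⟨w, rfl⟩ := Ideal.mem_span_singleton.1 hu
    exact hk (Ideal.mem_span_singleton.2 ⟨w, by rw [pow_succ]; ring⟩)
  exact ⟨n, le_antisymm h1 ((Ideal.span_singleton_le_iff_mem _).2
    ((Ideal.mul_unit_mem_iff_mem K hu).1 hkK))⟩

/-! ## Affine charts -/

variable {X : Scheme.{u}}

theorem isUnit_germ_iff {W : X.affineOpens} {x : X} (hx : x ∈ W.1) (f : Γ(X, W.1)) :
    IsUnit (X.presheaf.germ W.1 x hx f) ↔ f ∉ (W.2.primeIdealOf ⟨x, hx⟩).asIdeal := by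
  letI := X.presheaf.algebra_section_stalk ⟨x, hx⟩
  haveI := W.2.isLocalization_stalk ⟨x, hx⟩
  exact IsLocalization.AtPrime.isUnit_to_map_iff (X.presheaf.stalk x) _ f

theorem mem_support_iff_le {J : X.IdealSheafData} {W : X.affineOpens} {x : X} (hx : x ∈ W.1) :
    x ∈ J.support ↔ J.ideal W ≤ (W.2.primeIdealOf ⟨x, hx⟩).asIdeal := by
  rw [Scheme.IdealSheafData.mem_support_iff_of_mem hx, Scheme.mem_zeroLocus_iff]
  refine forall₂_congr fun f _ => ?_
  rw [Scheme.mem_basicOpen _ _ _ hx, isUnit_germ_iff, not_not]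

theorem specializes_iff {W : X.affineOpens} {y z : X} (hy : y ∈ W.1) (hz : z ∈ W.1) :
    y ⤳ z ↔ (W.2.primeIdealOf ⟨y, hy⟩).asIdeal ≤ (W.2.primeIdealOf ⟨z, hz⟩).asIdeal := by
  have h1 : W.2.fromSpec (W.2.primeIdealOf ⟨y, hy⟩) = y := W.2.fromSpec_primeIdealOf ⟨y, hy⟩
  have h2 : W.2.fromSpec (W.2.primeIdealOf ⟨z, hz⟩) = z := W.2.fromSpec_primeIdealOf ⟨z, hz⟩
  conv_lhs => rw [← h1, ← h2]
  rw [W.2.fromSpec.isOpenEmbedding.isInducing.specializes_iff]
  exact (PrimeSpectrum.le_iff_specializes _ _).symm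

theorem dim_stalk {W : X.affineOpens} {x : X} (hx : x ∈ W.1) :
    ringKrullDim (X.presheaf.stalk x) = (W.2.primeIdealOf ⟨x, hx⟩).asIdeal.height := by
  letI := X.presheaf.algebra_section_stalk ⟨x, hx⟩
  haveI := W.2.isLocalization_stalk ⟨x, hx⟩
  exact IsLocalization.AtPrime.ringKrullDim_eq_height _ (X.presheaf.stalk x)

theorem dim_stalk_le_of_specializes {y z : X} (h : y ⤳ z) :
    ringKrullDim (X.presheaf.stalk y) ≤ ringKrullDim (X.presheaf.stalk z) := by
  obtain ⟨W, hz, -⟩ := Groth.Divisors.exists_affine_le z ⊤ trivial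
  have hy : y ∈ W.1 := h.mem_open W.1.2 hz
  rw [dim_stalk hy, dim_stalk hz]
  exact WithBot.coe_le_coe.2 (Ideal.height_mono ((specializes_iff hy hz).1 h))

/-- The generic point of an integral closed subscheme. -/
noncomputable def eta (J : X.IdealSheafData) [IsIntegral J.subscheme] : X :=
  J.subschemeι (genericPoint J.subscheme)

theorem mem_support_iff_eta (J : X.IdealSheafData) [IsIntegral J.subscheme] (z : X) :
    z ∈ J.support ↔ eta J ⤳ z := by
  constructor
  · intro hz
    obtain ⟨w, rfl⟩ : z ∈ Set.range J.subschemeι := by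
      rw [Scheme.IdealSheafData.range_subschemeι]; exact hz
    exact (genericPoint_specializes w).map J.subschemeι.continuous
  · intro h
    have h0 : eta J ∈ J.support := by
      have : eta J ∈ Set.range J.subschemeι := ⟨_, rfl⟩
      rwa [Scheme.IdealSheafData.range_subschemeι] at this
    exact h.mem_closed J.support.2 h0

theorem isPrime_ideal (J : X.IdealSheafData) [IsIntegral J.subscheme] {W : X.affineOpens}
    (hη : eta J ∈ W.1) : (J.ideal W).IsPrime := by
  haveI : Nonempty (J.subschemeι ⁻¹ᵁ W.1) := ⟨⟨genericPoint J.subscheme, hη⟩⟩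
  haveI : IsDomain (Γ(X, W.1) ⧸ J.ideal W) :=
    MulEquiv.isDomain Γ(J.subscheme, J.subschemeι ⁻¹ᵁ W.1)
      (J.subschemeObjIso W).commRingCatIsoToRingEquiv.symm.toMulEquiv
  exact Ideal.Quotient.isDomain_iff_prime _ |>.1 inferInstance

theorem primeIdealOf_eta (J : X.IdealSheafData) [IsIntegral J.subscheme] {W : X.affineOpens}
    (hη : eta J ∈ W.1) : (W.2.primeIdealOf ⟨eta J, hη⟩).asIdeal = J.ideal W := by
  have hP := isPrime_ideal J hη
  refine le_antisymm ?_ ((mem_support_iff_le hη).1 ((mem_support_iff_eta J _).2 specializes_rfl))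
  let q : PrimeSpectrum Γ(X, W.1) := ⟨J.ideal W, hP⟩
  have hq : W.2.fromSpec q ∈ W.1 := by
    rw [← SetLike.mem_coe, ← W.2.range_fromSpec]; exact Set.mem_range_self q
  have hpq : W.2.primeIdealOf ⟨W.2.fromSpec q, hq⟩ = q :=
    W.2.fromSpec.isOpenEmbedding.injective (W.2.fromSpec_primeIdealOf ⟨_, hq⟩)
  have h := (specializes_iff hη hq).1 ((mem_support_iff_eta J _).1
    ((mem_support_iff_le hq).2 (le_of_eq (congrArg PrimeSpectrum.asIdeal hpq).symm)))
  rwa [hpq] at h

/-- A small affine chart in which finitely many effective Cartier divisors are principal and those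
not passing through the point are trivial. -/
theorem exists_chart {I : Type v} (D : I → X.IdealSheafData)
    (hD : ∀ i, BlowUp.IsEffCartierIdeal (D i)) (S : Finset I) (x : X) (O : X.Opens) (hx : x ∈ O) :
    ∃ W : X.affineOpens, x ∈ W.1 ∧ W.1 ≤ O ∧ ∀ i ∈ S, ∃ g : Γ(X, W.1),
      g ∈ nonZeroDivisors Γ(X, W.1) ∧ (D i).ideal W = Ideal.span {g} ∧
      (x ∉ (D i).support → IsUnit g) := by
  classical
  suffices ∃ W : X.affineOpens, x ∈ W.1 ∧ W.1 ≤ O ∧ ∀ i ∈ S, ∃ g : Γ(X, W.1),
      Groth.Divisors.IsNzdSec g ∧ (D i).ideal W = Ideal.span {g} ∧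
      (x ∉ (D i).support → IsUnit g) by
    obtain ⟨W, h1, h2, h3⟩ := this
    refine ⟨W, h1, h2, fun i hi => ?_⟩
    obtain ⟨g, hg, h⟩ := h3 i hi
    exact ⟨g, hg.mem_nonZeroDivisors, h⟩
  induction S using Finset.induction_on with
  | empty =>
    obtain ⟨W, h1, h2⟩ := Groth.Divisors.exists_affine_le x O hx
    exact ⟨W, h1, h2, by simp⟩
  | @insert j S hj ih =>
    obtain ⟨W, hxW, hWO, hW⟩ := ih
    obtain ⟨V, hxV, hVW, g, hg, hgI⟩ := Groth.Divisors.exists_generator (hD j) x W.1 hxW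
    obtain ⟨V', hxV', hV'V, hu⟩ : ∃ V' : X.affineOpens, x ∈ V'.1 ∧ ∃ h : V'.1 ≤ V.1,
        (x ∉ (D j).support → IsUnit (X.presheaf.map (homOfLE h).op g)) := by
      by_cases hxs : x ∈ (D j).support
      · exact ⟨V, hxV, le_rfl, fun h => absurd hxs h⟩
      · have hu := (Groth.Divisors.not_mem_support_iff hgI hxV).1 hxs
        refine ⟨⟨X.basicOpen g, V.2.basicOpen g⟩, ?_, X.basicOpen_le g, fun _ => ?_⟩
        · exact (Scheme.mem_basicOpen _ _ _ hxV).2 hu
        · exact RingedSpace.isUnit_res_basicOpen _ g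
    refine ⟨V', hxV', hV'V.trans (hVW.trans hWO), fun i hi => ?_⟩
    rcases Finset.mem_insert.1 hi with rfl | hi
    · refine ⟨_, hg.res hV'V, ?_, hu⟩
      rw [← (D i).map_ideal hV'V, hgI, Ideal.map_span, Set.image_singleton]
      rfl
    · obtain ⟨g', hg', hgI', hu'⟩ := hW i hi
      refine ⟨X.presheaf.map (homOfLE (hV'V.trans hVW)).op g', hg'.res _, ?_,
        fun h => (hu' h).map _⟩
      rw [← (D i).map_ideal (hV'V.trans hVW), hgI', Ideal.map_span, Set.image_singleton]
      rfl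

end Groth.DivisorLength
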