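import Groth.Agent.DivisorLength.Basic
import Mathlib.Topology.NoetherianSpace
import Mathlib.AlgebraicGeometry.Noetherian

/-!
# The divisorial part of a closed subscheme
-/

set_option autoImplicit false

universe u v

open CategoryTheory AlgebraicGeometry TopologicalSpace

namespace Groth.DivisorLength

/-- In a closed subset of a Noetherian sober space every point specializes a maximal point. -/
theorem exists_maximal_generization {α : Type u} [TopologicalSpace α] [NoetherianSpace α]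
    [QuasiSober α] [T0Space α] {C : Set α} (hC : IsClosed C) {z : α} (hz : z ∈ C) :
    ∃ y ∈ C, y ⤳ z ∧ ∀ w ∈ C, w ⤳ y → w = y := by
  classical
  obtain ⟨S, hSf, hSc, hSi, hCS⟩ := NoetherianSpace.exists_finite_set_isClosed_irreducible hC
  have hgen : ∀ s ∈ S, ∃ g, IsGenericPoint g s := fun s hs => QuasiSober.sober (hSi s hs) (hSc s hs)
  choose g hg using hgen
  obtain ⟨s₀, hs₀, hzs₀⟩ := hCS.subset hz
  let T : Set α := {y | (∃ s, ∃ hs : s ∈ S, y = g s hs) ∧ y ⤳ z}
  have hTfin : T.Finite := by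
    haveI := hSf.to_subtype
    refine (Set.finite_range fun s : S => g s.1 s.2).subset ?_
    rintro _ ⟨⟨s, hs, rfl⟩, -⟩
    exact ⟨⟨s, hs⟩, rfl⟩
  have hTne : T.Nonempty :=
    ⟨g s₀ hs₀, ⟨s₀, hs₀, rfl⟩, (hg s₀ hs₀).specializes hzs₀⟩
  letI : Preorder α := specializationPreorder α
  obtain ⟨y, hyT, hy⟩ := hTfin.exists_maximal hTne
  obtain ⟨⟨s, hs, rfl⟩, hyz⟩ := hyT
  refine ⟨_, hCS.symm.subset ⟨s, hs, (hg s hs).mem⟩, hyz, fun w hw hwy => ?_⟩
  obtain ⟨s', hs', hws'⟩ := hCS.subset hw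
  have h1 : g s' hs' ⤳ g s hs := ((hg s' hs').specializes hws').trans hwy
  have h2 : g s hs ⤳ g s' hs' := hy ⟨⟨s', hs', rfl⟩, h1.trans hyz⟩ h1
  exact (hwy.antisymm (h2.trans ((hg s' hs').specializes hws'))).eq

/-- The maximal points of a closed subset of a Noetherian sober space form a finite set. -/
theorem finite_maximal_points {α : Type u} [TopologicalSpace α] [NoetherianSpace α]
    [QuasiSober α] {C : Set α} (hC : IsClosed C) :
    {y | y ∈ C ∧ ∀ w ∈ C, w ⤳ y → w = y}.Finite := by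
  obtain ⟨S, hSf, hSc, hSi, hCS⟩ := NoetherianSpace.exists_finite_set_isClosed_irreducible hC
  have hgen : ∀ s ∈ S, ∃ g, IsGenericPoint g s := fun s hs => QuasiSober.sober (hSi s hs) (hSc s hs)
  choose g hg using hgen
  haveI := hSf.to_subtype
  refine (Set.finite_range fun s : S => g s.1 s.2).subset ?_
  rintro y ⟨hy, hmax⟩
  obtain ⟨s, hs, hys⟩ := hCS.subset hy
  exact ⟨⟨s, hs⟩, hmax _ (hCS.symm.subset ⟨s, hs, (hg s hs).mem⟩) ((hg s hs).specializes hys)⟩

variable {X : Scheme.{u}}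

/-- Germs of ideals do not depend on the chart. -/
theorem map_germ_eq (J : X.IdealSheafData) {W W' : X.affineOpens} {y : X} (hy : y ∈ W.1)
    (hy' : y ∈ W'.1) :
    (J.ideal W).map (X.presheaf.germ W.1 y hy).hom =
      (J.ideal W').map (X.presheaf.germ W'.1 y hy').hom := by
  obtain ⟨V, hyV, hV⟩ := Groth.Divisors.exists_affine_le y (W.1 ⊓ W'.1) ⟨hy, hy'⟩
  have h1 : V.1 ≤ W.1 := hV.trans inf_le_left
  have h2 : V.1 ≤ W'.1 := hV.trans inf_le_right
  rw [← X.presheaf.germ_res (homOfLE h1) y hyV, ← X.presheaf.germ_res (homOfLE h2) y hyV,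
    CommRingCat.hom_comp, CommRingCat.hom_comp, ← Ideal.map_map, ← Ideal.map_map]
  exact congrArg _ ((J.map_ideal h1).trans (J.map_ideal h2).symm)

/-- A germ lies in the germ of an ideal iff some multiple outside the prime does in the chart. -/
theorem germ_mem_map_iff {W : X.affineOpens} {y : X} (hy : y ∈ W.1) (K : Ideal Γ(X, W.1))
    (f : Γ(X, W.1)) :
    X.presheaf.germ W.1 y hy f ∈ K.map (X.presheaf.germ W.1 y hy).hom ↔
      ∃ s, s ∉ (W.2.primeIdealOf ⟨y, hy⟩).asIdeal ∧ s * f ∈ K := by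
  letI := X.presheaf.algebra_section_stalk ⟨y, hy⟩
  haveI := W.2.isLocalization_stalk ⟨y, hy⟩
  constructor
  · intro h1
    obtain ⟨⟨⟨b, hb⟩, ⟨s, hs⟩⟩, h⟩ := (IsLocalization.mem_map_algebraMap_iff
      (W.2.primeIdealOf ⟨y, hy⟩).asIdeal.primeCompl (X.presheaf.stalk y)).1 h1
    obtain ⟨⟨c, hc⟩, hcs⟩ := IsLocalization.exists_of_eq
      (M := (W.2.primeIdealOf ⟨y, hy⟩).asIdeal.primeCompl)
      (show algebraMap Γ(X, W.1) (X.presheaf.stalk y) (f * s) = algebraMap _ _ b by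
        rw [map_mul]; exact h)
    refine ⟨c * s, Submonoid.mul_mem _ hc hs, ?_⟩
    have h3 : c * b ∈ K := Ideal.mul_mem_left _ _ hb
    rw [← show c * (f * s) = c * b from hcs] at h3
    rwa [mul_assoc, mul_comm s f]
  · rintro ⟨s, hs, hsf⟩
    refine (Ideal.unit_mul_mem_iff_mem _ ((isUnit_germ_iff hy s).2 hs)).1 ?_
    rw [← map_mul]
    exact Ideal.mem_map_of_mem _ hsf

/-- The order of a closed subscheme along an integral effective Cartier divisor which it does not
contain a neighbourhood of. -/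
theorem exists_order [IsLocallyNoetherian X] (Z D : X.IdealSheafData)
    (hD : BlowUp.IsEffCartierIdeal D) [IsIntegral D.subscheme]
    (hZ : ∀ ζ : X, (∀ y : X, y ⤳ ζ → y = ζ) → ζ ∉ Z.support) :
    ∃ (W : X.affineOpens) (hη : eta D ∈ W.1) (t : Γ(X, W.1)) (n : ℕ),
      D.ideal W = Ideal.span {t} ∧
      (∀ a ∈ Z.ideal W, ∃ s, s ∉ Ideal.span {t} ∧ s * a ∈ Ideal.span {t ^ n}) ∧
      (∃ s, s ∉ Ideal.span {t} ∧ s * t ^ n ∈ Z.ideal W) := by
  obtain ⟨W, hη, -, t, ht, htI⟩ := Groth.Divisors.exists_generator hD (eta D) ⊤ trivial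
  have htnzd := ht.mem_nonZeroDivisors
  haveI := IsLocallyNoetherian.component_noetherian W
  let p := (W.2.primeIdealOf ⟨eta D, hη⟩).asIdeal
  have hp : p = Ideal.span {t} := (primeIdealOf_eta D hη).trans htI
  letI := X.presheaf.algebra_section_stalk ⟨eta D, hη⟩
  haveI : IsLocalization.AtPrime (X.presheaf.stalk (eta D)) p :=
    W.2.isLocalization_stalk ⟨eta D, hη⟩
  have hm : IsLocalRing.maximalIdeal (X.presheaf.stalk (eta D)) =
      Ideal.span {algebraMap Γ(X, W.1) (X.presheaf.stalk (eta D)) t} := by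
    rw [← IsLocalization.AtPrime.map_eq_maximalIdeal p (X.presheaf.stalk (eta D)), hp,
      Ideal.map_span, Set.image_singleton]
  have hK : (Z.ideal W).map (algebraMap Γ(X, W.1) (X.presheaf.stalk (eta D))) ≠ ⊥ := by
    intro hK
    obtain ⟨q, hq, hqp⟩ := Ideal.exists_minimalPrimes_le (bot_le : (⊥ : Ideal Γ(X, W.1)) ≤ p)
    haveI := hq.1.1
    have hZq : Z.ideal W ≤ q := by
      intro a ha
      have h0 : algebraMap Γ(X, W.1) (X.presheaf.stalk (eta D)) a = 0 := by
        rw [← Ideal.mem_bot, ← hK]; exact Ideal.mem_map_of_mem _ ha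
      obtain ⟨⟨s, hs⟩, hs0⟩ := (IsLocalization.map_eq_zero_iff p.primeCompl _ a).1 h0
      exact ((‹q.IsPrime›).mem_or_mem (show s * a ∈ q from hs0 ▸ q.zero_mem)).resolve_left
        fun h => hs (hqp h)
    let ζ := W.2.fromSpec ⟨q, inferInstance⟩
    have hζ : ζ ∈ W.1 := by
      rw [← SetLike.mem_coe, ← W.2.range_fromSpec]; exact Set.mem_range_self _
    have hpζ : W.2.primeIdealOf ⟨ζ, hζ⟩ = ⟨q, inferInstance⟩ :=
      W.2.fromSpec.isOpenEmbedding.injective (W.2.fromSpec_primeIdealOf ⟨ζ, hζ⟩)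
    refine hZ ζ (fun y hy => ?_) ?_
    · have hyW : y ∈ W.1 := hy.mem_open W.1.2 hζ
      have h1 := (specializes_iff hyW hζ).1 hy
      rw [hpζ] at h1
      have h2 := hq.2 ⟨inferInstance, bot_le⟩ h1
      refine (hy.antisymm ((specializes_iff hζ hyW).2 ?_)).eq
      rw [hpζ]
      exact h2
    · rw [mem_support_iff_le hζ, hpζ]
      exact hZq
  haveI : IsNoetherianRing (X.presheaf.stalk (eta D)) :=
    IsLocalization.isNoetherianRing p.primeCompl _ inferInstance
  obtain ⟨n, hn⟩ := exists_eq_span_pow hm hK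
  have hmapn : (Ideal.span {t ^ n}).map (algebraMap Γ(X, W.1) (X.presheaf.stalk (eta D))) =
      (Z.ideal W).map (algebraMap Γ(X, W.1) (X.presheaf.stalk (eta D))) := by
    rw [Ideal.map_span, Set.image_singleton, map_pow, hn]
  refine ⟨W, hη, t, n, htI, fun a ha => ?_, ?_⟩
  · obtain ⟨s, hs, h⟩ := (germ_mem_map_iff hη (Ideal.span {t ^ n}) a).1
      (hmapn.symm ▸ Ideal.mem_map_of_mem _ ha :
        algebraMap Γ(X, W.1) (X.presheaf.stalk (eta D)) a ∈ _)
    exact ⟨s, hp ▸ hs, h⟩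
  · obtain ⟨s, hs, h⟩ := (germ_mem_map_iff hη (Z.ideal W) (t ^ n)).1
      (hmapn ▸ Ideal.mem_map_of_mem _ (Ideal.mem_span_singleton_self _) :
        algebraMap Γ(X, W.1) (X.presheaf.stalk (eta D)) (t ^ n) ∈ _)
    exact ⟨s, hp ▸ hs, h⟩

theorem ideal_prod {I : Type v} (D : I → X.IdealSheafData) (n : I → ℕ) (S : Finset I)
    (W : X.affineOpens) :
    (∏ i ∈ S, D i ^ n i).ideal W = ∏ i ∈ S, (D i).ideal W ^ n i := by
  classical
  induction S using Finset.induction_on with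
  | empty => simp
  | @insert j T hj ih =>
    rw [Finset.prod_insert hj, Finset.prod_insert hj, Scheme.IdealSheafData.ideal_mul, Pi.mul_apply,
      ih, Scheme.IdealSheafData.ideal_pow, Pi.pow_apply]

theorem eq_of_primeIdealOf_eq {W : X.affineOpens} {y z : X} (hy : y ∈ W.1) (hz : z ∈ W.1)
    (h : (W.2.primeIdealOf ⟨y, hy⟩).asIdeal = (W.2.primeIdealOf ⟨z, hz⟩).asIdeal) : y = z :=
  (((specializes_iff hy hz).2 h.le).antisymm ((specializes_iff hz hy).2 h.ge)).eq

/-- A closed subscheme contains the sum of its orders along distinct integral divisors. -/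
theorem le_prod {I : Type v} (Z : X.IdealSheafData) (D : I → X.IdealSheafData)
    (hD : ∀ i, BlowUp.IsEffCartierIdeal (D i)) [∀ i, IsIntegral (D i).subscheme]
    (n : I → ℕ) (S : Finset I) (hinj : ∀ i ∈ S, ∀ j ∈ S, eta (D i) = eta (D j) → i = j)
    (hord : ∀ i ∈ S, ∃ (W : X.affineOpens) (_ : eta (D i) ∈ W.1) (t : Γ(X, W.1)),
      (D i).ideal W = Ideal.span {t} ∧
      ∀ a ∈ Z.ideal W, ∃ s, s ∉ Ideal.span {t} ∧ s * a ∈ Ideal.span {t ^ n i}) :
    Z ≤ ∏ i ∈ S, D i ^ n i := by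
  classical
  have key : ∀ x : X, ∃ W : X.affineOpens, x ∈ W.1 ∧
      Z.ideal W ≤ (∏ i ∈ S, D i ^ n i).ideal W := by
    intro x
    obtain ⟨W, hxW, -, hW⟩ := exists_chart D hD S x ⊤ trivial
    refine ⟨W, hxW, fun f hf => ?_⟩
    let t : I → Γ(X, W.1) := fun i => if h : i ∈ S then (hW i h).choose else 1
    have ht : ∀ i ∈ S, t i ∈ nonZeroDivisors Γ(X, W.1) ∧ (D i).ideal W = Ideal.span {t i} ∧
        (x ∉ (D i).support → IsUnit (t i)) := fun i hi => by
      simp only [t, dif_pos hi]; exact (hW i hi).choose_spec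
    have hDW : (∏ i ∈ S, D i ^ n i).ideal W = Ideal.span {∏ i ∈ S, t i ^ n i} := by
      rw [ideal_prod, ← Ideal.prod_span_singleton]
      exact Finset.prod_congr rfl fun i hi => by rw [(ht i hi).2.1, Ideal.span_singleton_pow]
    rw [hDW, Ideal.mem_span_singleton]
    have hu : IsUnit (∏ i ∈ S.filter (fun i => x ∉ (D i).support), t i ^ n i) :=
      IsUnit.prod_iff.2 fun i hi =>
        ((ht i (Finset.mem_filter.1 hi).1).2.2 (Finset.mem_filter.1 hi).2).pow _
    rw [← Finset.prod_filter_mul_prod_filter_not S (fun i => x ∈ (D i).support), hu.mul_right_dvd]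
    have hη : ∀ i ∈ S.filter (fun i => x ∈ (D i).support), eta (D i) ∈ W.1 := fun i hi =>
      ((mem_support_iff_eta (D i) x).1 (Finset.mem_filter.1 hi).2).mem_open W.1.2 hxW
    have hsp : ∀ (i : I) (hi : i ∈ S.filter (fun i => x ∈ (D i).support)),
        Ideal.span {t i} = (W.2.primeIdealOf ⟨eta (D i), hη i hi⟩).asIdeal := fun i hi =>
      ((primeIdealOf_eta (D i) (hη i hi)).trans (ht i (Finset.mem_filter.1 hi).1).2.1).symm
    refine mem_span_prod_pow t n _ (fun i hi => (ht i (Finset.mem_filter.1 hi).1).1)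
      (fun i hi => (hsp i hi).symm ▸ (W.2.primeIdealOf _).2) (fun i hi j hj hij h => ?_) f
      (fun i hi => ?_)
    · rw [hsp i hi, hsp j hj] at h
      exact hij (hinj i (Finset.mem_filter.1 hi).1 j (Finset.mem_filter.1 hj).1
        (eq_of_primeIdealOf_eq _ _ h))
    · obtain ⟨Wi, hWi, ti, hti, hdiv⟩ := hord i (Finset.mem_filter.1 hi).1
      have h1 : X.presheaf.germ W.1 (eta (D i)) (hη i hi) f ∈
          ((D i).ideal W ^ n i).map (X.presheaf.germ W.1 (eta (D i)) (hη i hi)).hom := by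
        rw [Ideal.map_pow, map_germ_eq (D i) (hη i hi) hWi, ← Ideal.map_pow, hti,
          Ideal.span_singleton_pow]
        have h2 : X.presheaf.germ W.1 (eta (D i)) (hη i hi) f ∈
            (Z.ideal W).map (X.presheaf.germ W.1 (eta (D i)) (hη i hi)).hom :=
          Ideal.mem_map_of_mem _ hf
        rw [map_germ_eq Z (hη i hi) hWi] at h2
        refine Ideal.map_le_iff_le_comap.2 (fun b hb => ?_) h2
        rw [Ideal.mem_comap]
        obtain ⟨s, hs, hd⟩ := hdiv b hb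
        exact (germ_mem_map_iff hWi _ b).2 ⟨s, by rwa [primeIdealOf_eta (D i) hWi, hti], hd⟩
      rw [(ht i (Finset.mem_filter.1 hi).1).2.1, Ideal.span_singleton_pow] at h1
      obtain ⟨s, hs, hsf⟩ := (germ_mem_map_iff (hη i hi) _ f).1 h1
      exact ⟨s, by rwa [hsp i hi], Ideal.mem_span_singleton.1 hsf⟩
  choose W hxW hW using key
  exact Scheme.IdealSheafData.le_of_iSup_eq_top W
    (top_le_iff.1 fun x _ => Opens.mem_iSup.2 ⟨x, hxW x⟩) hW

/-- At the generic point of one of the divisors the two ideals agree on a neighbourhood. -/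
theorem exists_eq_near {I : Type v} (Z : X.IdealSheafData) (D : I → X.IdealSheafData)
    (hD : ∀ i, BlowUp.IsEffCartierIdeal (D i)) [∀ i, IsIntegral (D i).subscheme]
    (n : I → ℕ) (S : Finset I) (hle : Z ≤ ∏ i ∈ S, D i ^ n i) {j : I} (hj : j ∈ S)
    (hoff : ∀ k ∈ S, k ≠ j → eta (D j) ∉ (D k).support)
    (Wj : X.affineOpens) (hWj : eta (D j) ∈ Wj.1) (t : Γ(X, Wj.1))
    (ht : (D j).ideal Wj = Ideal.span {t})
    (hmem : ∃ s, s ∉ Ideal.span {t} ∧ s * t ^ n j ∈ Z.ideal Wj) :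
    ∃ V : X.affineOpens, eta (D j) ∈ V.1 ∧ (∏ i ∈ S, D i ^ n i).ideal V = Z.ideal V := by
  classical
  obtain ⟨W, hηW, hWle, hW⟩ := exists_chart D hD S (eta (D j)) Wj.1 hWj
  obtain ⟨s, hs, hsZ⟩ := hmem
  have hu : IsUnit (X.presheaf.germ Wj.1 (eta (D j)) hWj s) :=
    (isUnit_germ_iff hWj s).2 (by rwa [primeIdealOf_eta (D j) hWj, ht])
  have hmemV : eta (D j) ∈ W.1 ⊓ X.basicOpen s :=
    ⟨hηW, (Scheme.mem_basicOpen _ _ _ hWj).2 hu⟩
  obtain ⟨V, hηV, hV⟩ := Groth.Divisors.exists_affine_le (eta (D j)) (W.1 ⊓ X.basicOpen s) hmemV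
  have hVW : V.1 ≤ W.1 := hV.trans inf_le_left
  have hVs : V.1 ≤ X.basicOpen s := hV.trans inf_le_right
  have hVj : V.1 ≤ Wj.1 := hVW.trans hWle
  refine ⟨V, hηV, le_antisymm ?_ (hle V)⟩
  have hDV : (∏ i ∈ S, D i ^ n i).ideal V = (D j).ideal V ^ n j := by
    rw [ideal_prod, Finset.prod_eq_single_of_mem j hj]
    intro k hk hkj
    obtain ⟨g, -, hg, hgu⟩ := hW k hk
    rw [← (D k).map_ideal hVW, hg, Ideal.span_singleton_eq_top.2 (hgu (hoff k hk hkj)),
      Ideal.map_top, ← Ideal.one_eq_top, one_pow]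
  rw [hDV, ← (D j).map_ideal hVj, ht, ← Ideal.map_pow, Ideal.span_singleton_pow, Ideal.map_span,
    Set.image_singleton, Ideal.span_singleton_le_iff_mem]
  have hsu : IsUnit ((X.presheaf.map (homOfLE hVj).op).hom s) := by
    have h := (RingedSpace.isUnit_res_basicOpen X.toRingedSpace s).map
      (X.presheaf.map (homOfLE hVs).op).hom
    erw [← CommRingCat.comp_apply, ← X.presheaf.map_comp] at h
    exact h
  refine (Ideal.unit_mul_mem_iff_mem _ hsu).1 ?_
  rw [← Z.map_ideal hVj]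
  have h := Ideal.mem_map_of_mem (X.presheaf.map (homOfLE hVj).op).hom hsZ
  exact (map_mul (X.presheaf.map (homOfLE hVj).op).hom s (t ^ n j)) ▸ h

end Groth.DivisorLength
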